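import Mathlib

/-! Finite projective planes as incidence relations (`PP I n`), collineation groups (`PA G I n`),
axes and centres (`Ax`, `Ce`), elation groups `T a` and basic facts about perspectivities. -/

set_option autoImplicit false

namespace Cfsg.Agent.Plane

/-- A projective plane of order `n` given by an incidence relation. -/
structure PP {P L : Type*} (I : P → L → Prop) (n : ℕ) : Prop where
  exL : ∀ p q : P, ∃ l, I p l ∧ I q l
  exP : ∀ l m : L, ∃ p, I p l ∧ I p m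
  uq : ∀ {p q : P} {l m : L}, I p l → I q l → I p m → I q m → p = q ∨ l = m
  onL : ∀ l, {p | I p l}.ncard = n + 1
  thru : ∀ p, {l | I p l}.ncard = n + 1
  two_le : 2 ≤ n
  cardP : Nat.card P = n ^ 2 + n + 1
  cardL : Nat.card L = n ^ 2 + n + 1

variable {P L : Type*} {I : P → L → Prop} {n : ℕ}

theorem PP.of_mathlib (P L : Type*) [Membership P L] [Finite P] [Finite L] [Configuration.ProjectivePlane P L] :
    PP (fun (p : P) (l : L) => p ∈ l) (Configuration.ProjectivePlane.order P L) := by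
  classical
  cases nonempty_fintype P
  cases nonempty_fintype L
  have h1 : ∀ l : L, {p : P | p ∈ l}.ncard = Configuration.ProjectivePlane.order P L + 1 := fun l => by
    rw [← Configuration.ProjectivePlane.pointCount_eq P l]; rfl
  have h2 : ∀ p : P, {l : L | p ∈ l}.ncard = Configuration.ProjectivePlane.order P L + 1 := fun p => by
    rw [← Configuration.ProjectivePlane.lineCount_eq L p]; rfl
  refine ⟨fun p q => ?_, fun l m => ?_, fun a b c d => Configuration.Nondegenerate.eq_or_eq a b c d, h1, h2,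
    Configuration.ProjectivePlane.one_lt_order P L, ?_, ?_⟩
  · by_cases e : p = q
    · obtain ⟨l, hl⟩ := Set.nonempty_of_ncard_ne_zero (s := {l : L | p ∈ l}) (by rw [h2]; omega)
      exact ⟨l, hl, e ▸ hl⟩
    · exact ⟨_, Configuration.HasLines.mkLine_ax e⟩
  · by_cases e : l = m
    · obtain ⟨p, hp⟩ := Set.nonempty_of_ncard_ne_zero (s := {p : P | p ∈ l}) (by rw [h1]; omega)
      exact ⟨p, hp, e ▸ hp⟩
    · exact ⟨_, Configuration.HasPoints.mkPoint_ax e⟩
  · rw [Nat.card_eq_fintype_card, Configuration.ProjectivePlane.card_points P L]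
  · rw [Nat.card_eq_fintype_card, Configuration.ProjectivePlane.card_lines P L]

theorem PP.of_config [Finite P] [Finite L] (exL : ∀ p q : P, p ≠ q → ∃ l, I p l ∧ I q l)
    (exP : ∀ l m : L, l ≠ m → ∃ p, I p l ∧ I p m)
    (uq : ∀ {p q : P} {l m : L}, I p l → I q l → I p m → I q m → p = q ∨ l = m)
    (h1 : ∀ l, ∃ p, ¬ I p l) (h2 : ∀ p, ∃ l, ¬ I p l)
    (cf : ∃ (p₁ p₂ p₃ : P) (l₁ l₂ l₃ : L), ¬ I p₁ l₂ ∧ ¬ I p₁ l₃ ∧ ¬ I p₂ l₁ ∧ I p₂ l₂ ∧ I p₂ l₃ ∧ ¬ I p₃ l₁ ∧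
      I p₃ l₂ ∧ ¬ I p₃ l₃) : ∃ n, PP I n := by
  letI : Membership P L := ⟨fun l p => I p l⟩
  letI : Configuration.ProjectivePlane P L :=
    { exists_point := h1
      exists_line := h2
      eq_or_eq := uq
      mkPoint := fun h => (exP _ _ h).choose
      mkPoint_ax := fun h => (exP _ _ h).choose_spec
      mkLine := fun h => (exL _ _ h).choose
      mkLine_ax := fun h => (exL _ _ h).choose_spec
      exists_config := cf }
  exact ⟨_, PP.of_mathlib P L⟩

namespace PP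
variable (h : PP I n)
include h

theorem dual : PP (fun l p => I p l) n :=
  ⟨h.exP, h.exL, fun a b c d => (h.uq a c b d).symm, h.thru, h.onL, h.two_le, h.cardL, h.cardP⟩

theorem finP : Finite P := Nat.finite_of_card_ne_zero (by rw [h.cardP]; omega)
theorem finL : Finite L := h.dual.finP

theorem uqL {p q : P} {l m : L} (e : p ≠ q) (a : I p l) (b : I q l) (c : I p m) (d : I q m) : l = m :=
  (h.uq a b c d).resolve_left e

theorem uqP {p q : P} {l m : L} (e : l ≠ m) (a : I p l) (b : I p m) (c : I q l) (d : I q m) : p = q :=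
  (h.uq a c b d).resolve_right e

theorem ex3 (l : L) (p q : P) : ∃ r, I r l ∧ r ≠ p ∧ r ≠ q := by
  have := h.finP
  by_contra hc
  push Not at hc
  have h1 : {r | I r l} ⊆ {p, q} := fun r hr => by
    by_cases e : r = p
    · exact Or.inl e
    · exact Or.inr (hc r hr e)
  have h2 := Set.ncard_le_ncard h1
  have h3 := Set.ncard_insert_le p ({q} : Set P)
  rw [h.onL] at h2
  rw [Set.ncard_singleton] at h3
  have := h.two_le
  omega

theorem ex3L (p : P) (l m : L) : ∃ k, I p k ∧ k ≠ l ∧ k ≠ m := h.dual.ex3 p l m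

theorem off (l : L) : {p | ¬ I p l}.ncard = n ^ 2 := by
  have := h.finP
  have h1 := Set.ncard_add_ncard_compl {p | I p l}
  rw [h.onL, h.cardP] at h1
  have : {p | ¬ I p l} = {p | I p l}ᶜ := rfl
  rw [this]; omega

theorem offL (p : P) : {l | ¬ I p l}.ncard = n ^ 2 := h.dual.off p

theorem exOff (l : L) : ∃ p, ¬ I p l :=
  Set.nonempty_of_ncard_ne_zero (s := {p | ¬ I p l}) (by rw [h.off]; have := h.two_le; positivity)

theorem exOffL (p : P) : ∃ l, ¬ I p l := h.dual.exOff p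

theorem on_diff {l : L} {p : P} (hp : I p l) : {q | I q l ∧ q ≠ p}.ncard = n := by
  have := h.finP
  have e : {q | I q l ∧ q ≠ p} = {q | I q l} \ {p} := by ext; simp
  rw [e, Set.ncard_diff_singleton_of_mem (by exact hp), h.onL]; rfl

theorem thru_diff {l : L} {p : P} (hp : I p l) : {m | I p m ∧ m ≠ l}.ncard = n := h.dual.on_diff hp

theorem neP : Nonempty P := by
  have := h.finP
  exact (Nat.card_pos_iff.1 (by rw [h.cardP]; omega)).1

theorem neL : Nonempty L := h.dual.neP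

theorem sepL {p q : P} (e : p ≠ q) : ∃ l, I p l ∧ ¬ I q l := by
  obtain ⟨k, h1, h2⟩ := h.exL p q
  obtain ⟨l, h3, h4, -⟩ := h.ex3L p k k
  exact ⟨l, h3, fun h5 => h4 (h.uqL e h3 h5 h1 h2)⟩

end PP

/-- A group acting faithfully on a plane by collineations. -/
structure PA (G : Type*) [Group G] [MulAction G P] [MulAction G L] (I : P → L → Prop) (n : ℕ) : Prop
    extends PP I n where
  inv : ∀ (g : G) (p : P) (l : L), I (g • p) (g • l) ↔ I p l
  faith : ∀ g : G, (∀ p : P, g • p = p) → (∀ l : L, g • l = l) → g = 1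

variable {G : Type*} [Group G] [MulAction G P] [MulAction G L]

/-- `a` is an axis of `g`. -/
def Ax (I : P → L → Prop) (a : L) : Subgroup G where
  carrier := {g | ∀ p, I p a → g • p = p}
  one_mem' := fun p _ => one_smul G p
  mul_mem' := fun {g k} hg hk p hp => by rw [mul_smul, hk p hp, hg p hp]
  inv_mem' := fun {g} hg p hp => by rw [inv_smul_eq_iff, hg p hp]

/-- `c` is a centre of `g`. -/
abbrev Ce (I : P → L → Prop) (c : P) : Subgroup G := Ax (fun l p => I p l) c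

theorem mem_Ax {g : G} {a : L} : g ∈ Ax I a ↔ ∀ p, I p a → g • p = p := Iff.rfl
theorem mem_Ce {g : G} {c : P} : g ∈ Ce I c ↔ ∀ l, I c l → g • l = l := Iff.rfl

namespace PA
variable (h : PA G I n)
include h

theorem dual : PA G (fun l p => I p l) n := ⟨h.toPP.dual, fun g l p => h.inv g p l, fun g a b => h.faith g b a⟩

theorem sm {p : P} {l : L} (g : G) (hp : I p l) : I (g • p) (g • l) := (h.inv g p l).2 hp

theorem smL {p : P} {l : L} {g : G} (hp : I p l) (e : g • l = l) : I (g • p) l := e ▸ h.sm g hp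
theorem smP {p : P} {l : L} {g : G} (hp : I p l) (e : g • p = p) : I p (g • l) := e ▸ h.sm g hp

theorem inv' (g : G) (p : P) (l : L) : I p (g • l) ↔ I (g⁻¹ • p) l := by
  rw [← h.inv g (g⁻¹ • p), smul_inv_smul]

theorem invL {g : G} {l : L} (e : g • l = l) (p : P) : I (g • p) l ↔ I p l := by
  rw [← h.inv g p, e]

theorem fixL {g : G} {p q : P} {l : L} (e : p ≠ q) (hp : g • p = p) (hq : g • q = q) (a : I p l) (b : I q l) :
    g • l = l := h.uqL e (h.smP a hp) (h.smP b hq) a b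

theorem fixP {g : G} {p : P} {l m : L} (e : l ≠ m) (hl : g • l = l) (hm : g • m = m) (a : I p l) (b : I p m) :
    g • p = p := h.dual.fixL e hl hm a b

theorem faithP {g : G} (hg : ∀ p : P, g • p = p) : g = 1 := h.faith g hg fun l => by
  obtain ⟨p⟩ := h.neP
  obtain ⟨q, h1, -⟩ := h.ex3 l p p
  obtain ⟨r, h2, h3, -⟩ := h.ex3 l q q
  exact h.fixL h3 (hg r) (hg q) h2 h1

theorem faithL {g : G} (hg : ∀ l : L, g • l = l) : g = 1 := h.dual.faithP hg

theorem finG : Finite G := by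
  have := h.finP
  refine Finite.of_injective (MulAction.toPermHom G P) ((injective_iff_map_eq_one _).2 fun g hg => h.faithP fun p => ?_)
  exact congrArg (fun s : Equiv.Perm P => s p) hg

theorem ax_fix {g : G} {a : L} (hg : g ∈ Ax I a) : g • a = a := by
  obtain ⟨p⟩ := h.neP
  obtain ⟨q, h1, -⟩ := h.ex3 a p p
  obtain ⟨r, h2, h3, -⟩ := h.ex3 a q q
  exact h.fixL h3 (hg r h2) (hg q h1) h2 h1

theorem ce_fix {g : G} {c : P} (hg : g ∈ Ce I c) : g • c = c := h.dual.ax_fix hg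

theorem ce_of_fix {g : G} {a : L} {c : P} (hg : g ∈ Ax I a) (hc : g • c = c) (hca : ¬ I c a) : g ∈ Ce I c :=
  fun l hl => by
    obtain ⟨p, h1, h2⟩ := h.exP l a
    exact h.fixL (fun e : p = c => hca (e ▸ h2)) (hg p h2) hc h1 hl

theorem ax_of_fix {g : G} {a : L} {c : P} (hg : g ∈ Ce I c) (ha : g • a = a) (hca : ¬ I c a) : g ∈ Ax I a :=
  h.dual.ce_of_fix hg ha hca

theorem two_ax {g : G} {a b : L} (ha : g ∈ Ax I a) (hb : g ∈ Ax I b) (e : a ≠ b) : g = 1 := h.faithP fun x => by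
  by_cases xa : I x a
  · exact ha x xa
  by_cases xb : I x b
  · exact hb x xb
  obtain ⟨d, d1, d2⟩ := h.exP a b
  have key : ∀ u, I u a → u ≠ d → ∀ l, I u l → I x l → g • l = l := fun u h1 h2 l h3 h4 => by
    obtain ⟨v, h5, h6⟩ := h.exP l b
    exact h.fixL (fun e' : u = v => h2 (h.uqP e h1 (e' ▸ h6) d1 d2)) (ha u h1) (hb v h6) h3 h5
  obtain ⟨u, u1, u2, -⟩ := h.ex3 a d d
  obtain ⟨v, v1, v2, v3⟩ := h.ex3 a d u
  obtain ⟨l, l1, l2⟩ := h.exL u x
  obtain ⟨m, m1, m2⟩ := h.exL v x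
  exact h.fixP (fun e' : l = m => xa (h.uqL v3 (e' ▸ m1) l1 v1 u1 ▸ l2)) (key u u1 u2 l l1 l2)
    (key v v1 v2 m m1 m2) l2 m2

theorem two_ce {g : G} {c d : P} (hc : g ∈ Ce I c) (hd : g ∈ Ce I d) (e : c ≠ d) : g = 1 := h.dual.two_ax hc hd e

theorem ax_uq {g : G} {a b : L} (ha : g ∈ Ax I a) (hb : g ∈ Ax I b) (e : g ≠ 1) : a = b :=
  by_contra fun e' => e (h.two_ax ha hb e')

theorem ce_uq {g : G} {c d : P} (hc : g ∈ Ce I c) (hd : g ∈ Ce I d) (e : g ≠ 1) : c = d := h.dual.ax_uq hc hd e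

theorem fix_pt {g : G} {a : L} {c x : P} (ha : g ∈ Ax I a) (hc : g ∈ Ce I c) (e : g ≠ 1) (hx : g • x = x) :
    x = c ∨ I x a := by
  by_cases xa : I x a
  · exact Or.inr xa
  · exact Or.inl (h.ce_uq (h.ce_of_fix ha hx xa) hc e)

theorem fix_ln {g : G} {a m : L} {c : P} (ha : g ∈ Ax I a) (hc : g ∈ Ce I c) (e : g ≠ 1) (hm : g • m = m) :
    m = a ∨ I c m := h.dual.fix_pt hc ha e hm

theorem exists_ce {g : G} {a : L} (ha : g ∈ Ax I a) : ∃ c, g ∈ Ce I c := by
  by_cases hf : ∃ x, ¬ I x a ∧ g • x = x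
  · obtain ⟨x, h1, h2⟩ := hf
    exact ⟨x, h.ce_of_fix ha h2 h1⟩
  push Not at hf
  have key : ∀ x, ¬ I x a → ∃ m, I x m ∧ g • m = m := fun x hx => by
    obtain ⟨m, h1, h2⟩ := h.exL x (g • x)
    obtain ⟨y, h3, h4⟩ := h.exP m a
    refine ⟨m, h1, h.uqL (p := g • x) (q := y) (fun e => hx ?_) (h.sm g h1) (h.smP h3 (ha y h4)) h2 h3⟩
    rw [← h.invL (h.ax_fix ha), e]; exact h4
  obtain ⟨x, hx⟩ := h.exOff a
  obtain ⟨m, m1, m2⟩ := key x hx
  obtain ⟨c, c1, c2⟩ := h.exP m a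
  refine ⟨c, fun l hl => ?_⟩
  by_cases e : l = a
  · rw [e]; exact h.ax_fix ha
  obtain ⟨y, y1, y2, -⟩ := h.ex3 l c c
  have ya : ¬ I y a := fun y3 => y2 (h.uqP e y1 y3 hl c2)
  obtain ⟨k, k1, k2⟩ := key y ya
  have kc : I c k := by
    by_cases e' : k = m
    · rw [e']; exact c1
    obtain ⟨z, z1, z2⟩ := h.exP k m
    have za : I z a := by_contra fun za => hf z za (h.fixP e' k2 m2 z1 z2)
    rw [h.uqP (fun e'' : m = a => hx (e'' ▸ m1)) c1 c2 z2 za]; exact z1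
  rw [h.uqL y2 y1 hl k1 kc]; exact k2

theorem exists_ax {g : G} {c : P} (hc : g ∈ Ce I c) : ∃ a, g ∈ Ax I a := h.dual.exists_ce hc

theorem ax_conj {g : G} {a : L} (ha : g ∈ Ax I a) (k : G) : k * g * k⁻¹ ∈ Ax I (k • a) := fun p hp => by
  rw [mul_smul, mul_smul, ha _ ((h.inv' k p a).1 hp), smul_inv_smul]

theorem ce_conj {g : G} {c : P} (hc : g ∈ Ce I c) (k : G) : k * g * k⁻¹ ∈ Ce I (k • c) := h.dual.ax_conj hc k

/-- A point moved by a central collineation moves along the line to the centre. -/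
theorem ce_col {g : G} {c x : P} {l : L} (hc : g ∈ Ce I c) (hx : g • x ≠ x) (h1 : I x l) (h2 : I (g • x) l) :
    I c l := by
  obtain ⟨m, m1, m2⟩ := h.exL x c
  rw [h.uqL hx h2 h1 (h.smL m1 (hc m m2)) m1]; exact m2

/-- The group of elations with axis `a`. -/
def T (a : L) : Subgroup G where
  carrier := {g | g ∈ Ax I a ∧ ∃ c, I c a ∧ g ∈ Ce I c}
  one_mem' := ⟨one_mem _, by
    obtain ⟨p⟩ := h.neP
    obtain ⟨q, h1, -⟩ := h.ex3 a p p
    exact ⟨q, h1, one_mem _⟩⟩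
  inv_mem' := fun ⟨h1, c, h2, h3⟩ => ⟨inv_mem h1, c, h2, inv_mem h3⟩
  mul_mem' := by
    rintro g k ⟨g1, c, g2, g3⟩ ⟨k1, d, k2, k3⟩
    refine ⟨mul_mem g1 k1, ?_⟩
    obtain ⟨e, he⟩ := h.exists_ce (mul_mem g1 k1)
    by_cases ea : I e a
    · exact ⟨e, ea, he⟩
    by_cases k0 : k = 1
    · exact ⟨c, g2, by rw [k0, mul_one]; exact g3⟩
    have ke : k • e ≠ e := fun e' => (h.fix_pt k1 k3 k0 e').elim (fun e'' => ea (e'' ▸ k2)) ea
    have ge : g⁻¹ • e = k • e := by rw [inv_smul_eq_iff, ← mul_smul, h.ce_fix he]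
    obtain ⟨l, l1, l2⟩ := h.exL e (k • e)
    have h1 := h.ce_col k3 ke l1 l2
    have h2 := h.ce_col (inv_mem g3) (ge ▸ ke) l1 (ge ▸ l2)
    have : c = d := h.uqP (fun e' : l = a => ea (e' ▸ l1)) h2 g2 h1 k2
    exact ⟨c, g2, mul_mem g3 (this ▸ k3)⟩

theorem mem_T {g : G} {a : L} : g ∈ h.T a ↔ g ∈ Ax I a ∧ ∃ c, I c a ∧ g ∈ Ce I c := Iff.rfl

theorem T_semi {g : G} {a : L} {x : P} (hg : g ∈ h.T a) (hx : ¬ I x a) (e : g • x = x) : g = 1 := by
  obtain ⟨g1, c, g2, g3⟩ := hg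
  exact by_contra fun g0 => (h.fix_pt g1 g3 g0 e).elim (fun e' => hx (e' ▸ g2)) hx

theorem T_conj {g : G} {a : L} (hg : g ∈ h.T a) (k : G) : k * g * k⁻¹ ∈ h.T (k • a) := by
  obtain ⟨g1, c, g2, g3⟩ := hg
  exact ⟨h.ax_conj g1 k, k • c, h.sm k g2, h.ce_conj g3 k⟩

theorem comm_of_ne {g k : G} {a : L} {c d : P} (g1 : g ∈ Ax I a) (g2 : g ∈ Ce I c) (k1 : k ∈ Ax I a)
    (k2 : k ∈ Ce I d) (ca : I c a) (da : I d a) (e : c ≠ d) : g * k = k * g := by
  have h1 : g * k * g⁻¹ * k⁻¹ ∈ Ce I d := mul_mem (by simpa [g1 d da] using h.ce_conj k2 g) (inv_mem k2)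
  have h2 : g * (k * g⁻¹ * k⁻¹) ∈ Ce I c := mul_mem g2 (by simpa [k1 c ca] using h.ce_conj (inv_mem g2) k)
  have := h.two_ce (by simpa [mul_assoc] using h2) (by simpa [mul_assoc] using h1) e
  calc g * k = (g * (k * (g⁻¹ * k⁻¹))) * (k * g) := by group
    _ = k * g := by rw [this, one_mul]

/-- Two centres make the elation group abelian. -/
theorem T_comm {a : L} (h2 : ∀ c, I c a → ∃ d, ∃ k : G, I d a ∧ d ≠ c ∧ k ≠ 1 ∧ k ∈ Ax I a ∧ k ∈ Ce I d)
    {g k : G} (hg : g ∈ h.T a) (hk : k ∈ h.T a) : g * k = k * g := by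
  obtain ⟨g1, c, g2, g3⟩ := hg
  obtain ⟨k1, d, k2, k3⟩ := hk
  by_cases e : c = d
  swap
  · exact h.comm_of_ne g1 g3 k1 k3 g2 k2 e
  subst e
  obtain ⟨d, s, s1, s2, s3, s4, s5⟩ := h2 c g2
  obtain ⟨-, f, f1, f2⟩ := mul_mem (show k ∈ h.T a from ⟨k1, c, k2, k3⟩) (show s ∈ h.T a from ⟨s4, d, s1, s5⟩)
  have fc : c ≠ f := fun e => s3 (h.two_ce (by have := mul_mem (inv_mem k3) (e ▸ f2); rwa [inv_mul_cancel_left] at this) s5 s2.symm)
  have c1 := h.comm_of_ne g1 g3 s4 s5 g2 s1 s2.symm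
  have c2 := h.comm_of_ne g1 g3 (mul_mem k1 s4) f2 g2 f1 fc
  calc g * k = g * (k * s) * s⁻¹ := by group
    _ = k * (s * g) * s⁻¹ := by rw [c2, mul_assoc k]
    _ = k * g := by rw [← c1]; group

end PA

end Cfsg.Agent.Plane
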