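import Cfsg.Agent.Plane.Count
import Cfsg.Agent.PLocal.Jordan2

/-! Coordinates: a plane with field coordinates (`Coord`) is `PG(2, F)` (`Coord.desarg`); Hua's identity for pairs of
mutually inverse additive subgroups (`hua`). -/

set_option autoImplicit false

namespace Cfsg.Agent.Plane

open MulAction
open scoped commutatorElement

variable {P L : Type*} {I : P → L → Prop} {n : ℕ}

/-- Field coordinates on a plane. -/
structure Coord (I : P → L → Prop) {K : Type*} [Field K] (pt : K → K → P) (dir : K → P) (Y : P) (w : L) : Prop where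
  all : ∀ p, p = Y ∨ (∃ m, p = dir m) ∨ ∃ x y, p = pt x y
  Yw : I Y w
  dw : ∀ m, I (dir m) w
  pw : ∀ x y, ¬ I (pt x y) w
  dY : ∀ m, dir m ≠ Y
  dinj : Function.Injective dir
  pinj : ∀ x y x' y', pt x y = pt x' y' → x = x' ∧ y = y'
  ld : ∀ l x y m, I (pt x y) l → I (dir m) l → ∀ x' y', I (pt x' y') l ↔ y' - y = m * (x' - x)
  lY : ∀ l x y, I (pt x y) l → I Y l → ∀ x' y', I (pt x' y') l ↔ x' = x

/-- The conclusion of the Ostrom-Wagner theorem. -/
def Desarg (I : P → L → Prop) : Prop :=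
  ∃ (F : Type) (_ : Field F) (_ : Fintype F) (φ : P ≃ Projectivization F (Fin 3 → F)),
      (∀ l : L, ∃ W : Submodule F (Fin 3 → F), Module.finrank F W = 2 ∧
          ∀ p : P, I p l ↔ (φ p).submodule ≤ W) ∧
      (∀ W : Submodule F (Fin 3 → F), Module.finrank F W = 2 →
          ∃ l : L, ∀ p : P, I p l ↔ (φ p).submodule ≤ W)

theorem Coord.desarg0 {K : Type} [Field K] [Finite K] {pt : K → K → P} {dir : K → P} {Y : P} {w : L}
    (h : PP I n) (c : Coord I pt dir Y w) : Desarg I := by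
  classical
  let e : Option K ⊕ K × K → P := Sum.elim (fun o => o.elim Y dir) fun z => pt z.1 z.2
  let v : Option K ⊕ K × K → Fin 3 → K := Sum.elim (fun o => o.elim ![0, 1, 0] fun m => ![1, m, 0])
    fun z => ![z.1, z.2, 1]
  have v0 : ∀ z, v z ≠ 0 := by
    rintro ((_ | m) | ⟨x, y⟩) e
    exacts [one_ne_zero (congrFun e 1), one_ne_zero (congrFun e 0), one_ne_zero (congrFun e 2)]
  have he : Function.Bijective e := by
    refine ⟨?_, fun p => ?_⟩
    · rintro ((_ | m) | ⟨x, y⟩) ((_ | m') | ⟨x', y'⟩) e'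
      · rfl
      · exact absurd e'.symm (c.dY m')
      · exact absurd ((show Y = pt x' y' from e') ▸ c.Yw) (c.pw _ _)
      · exact absurd e' (c.dY m)
      · rw [c.dinj e']
      · exact absurd ((show dir m = pt x' y' from e') ▸ c.dw m) (c.pw _ _)
      · exact absurd ((show Y = pt x y from e'.symm) ▸ c.Yw) (c.pw _ _)
      · exact absurd ((show dir m' = pt x y from e'.symm) ▸ c.dw m') (c.pw _ _)
      · obtain ⟨rfl, rfl⟩ := c.pinj _ _ _ _ e'; rfl
    · rcases c.all p with rfl | ⟨m, rfl⟩ | ⟨x, y, rfl⟩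
      exacts [⟨.inl none, rfl⟩, ⟨.inl (some m), rfl⟩, ⟨.inr (x, y), rfl⟩]
  have hv : Function.Bijective fun z => Projectivization.mk K (v z) (v0 z) := by
    refine ⟨fun z z' e' => ?_, Projectivization.ind fun u hu => ?_⟩
    · obtain ⟨a, ha⟩ := (Projectivization.mk_eq_mk_iff' K _ _ _ _).1 e'
      have h0 := congrFun ha 0
      have h1 := congrFun ha 1
      have h2 := congrFun ha 2
      rcases z with ((_ | m) | ⟨x, y⟩) <;> rcases z' with ((_ | m') | ⟨x', y'⟩) <;> simp_all [v]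
    · simp only [Projectivization.mk_eq_mk_iff']
      by_cases h2 : u 2 = 0
      · by_cases h0 : u 0 = 0
        · have h1 : u 1 ≠ 0 := fun h1 => hu (by ext i; fin_cases i <;> simp_all)
          exact ⟨.inl none, (u 1)⁻¹, by ext i; fin_cases i <;> simp [v, h0, h1, h2]⟩
        · exact ⟨.inl (some ((u 0)⁻¹ * u 1)), (u 0)⁻¹, by ext i; fin_cases i <;> simp [v, h0, h2]⟩
      · exact ⟨.inr ((u 2)⁻¹ * u 0, (u 2)⁻¹ * u 1), (u 2)⁻¹, by ext i; fin_cases i <;> simp [v, h2]⟩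
  have ln : ∀ l, ∃ a : Fin 3 → K, a ≠ 0 ∧ ∀ z, I (e z) l ↔ a ⬝ᵥ v z = 0 := fun l => by
    by_cases lw : l = w
    · refine ⟨![0, 0, 1], fun e => one_ne_zero (congrFun e 2), ?_⟩
      rintro ((_ | m) | ⟨x, y⟩) <;> simp [e, v, lw, c.Yw, c.dw, c.pw]
    obtain ⟨d, d1, d2⟩ := h.exP l w
    obtain ⟨p, p1, p2, -⟩ := h.ex3 l d d
    have u : ∀ q, I q w → (I q l ↔ q = d) := fun q hq => ⟨fun q1 => h.uqP lw q1 hq d1 d2, fun e => e ▸ d1⟩
    obtain ⟨x, y, rfl⟩ : ∃ x y, p = pt x y := ((c.all p).resolve_left fun e => p2 ((u _ (e ▸ c.Yw)).1 p1)).resolve_left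
      fun ⟨m, e⟩ => p2 ((u _ (e ▸ c.dw m)).1 p1)
    rcases c.all d with rfl | ⟨m, rfl⟩ | ⟨x, y, rfl⟩
    · refine ⟨![1, 0, -x], fun e => one_ne_zero (congrFun e 0), ?_⟩
      rintro ((_ | m) | ⟨x', y'⟩)
      · simp [e, v, d1]
      · simp [e, v, u _ (c.dw m), c.dY]
      · simp [e, v, c.lY l x y p1 d1, add_neg_eq_zero]
    · refine ⟨![-m, 1, m * x - y], fun e => one_ne_zero (congrFun e 1), ?_⟩
      rintro ((_ | m') | ⟨x', y'⟩)
      · simp [e, v, u _ c.Yw, (c.dY m).symm]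
      · simp [e, v, u _ (c.dw m'), c.dinj.eq_iff, neg_add_eq_zero, eq_comm]
      · simp only [e, v, Sum.elim_inr, c.ld l x y m p1 d1]
        simp only [Matrix.vec3_dotProduct', Matrix.cons_val, Matrix.cons_val_zero, Matrix.cons_val_one]
        constructor <;> intro h1 <;> linear_combination h1
    · exact absurd d2 (c.pw _ _)
  let φ : P ≃ Projectivization K (Fin 3 → K) := (Equiv.ofBijective e he).symm.trans (Equiv.ofBijective _ hv)
  have hφ : ∀ z, φ (e z) = Projectivization.mk K (v z) (v0 z) := fun z => by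
    simp only [φ, Equiv.trans_apply, Equiv.ofBijective_symm_apply_apply, Equiv.ofBijective_apply]
  have A : ∀ l : L, ∃ W : Submodule K (Fin 3 → K), Module.finrank K W = 2 ∧ ∀ p : P, I p l ↔ (φ p).submodule ≤ W :=
    fun l => by
      obtain ⟨a, a0, ha⟩ := ln l
      refine ⟨LinearMap.ker (dotProductBilin K K a), ?_, fun p => ?_⟩
      · have := Module.Dual.finrank_ker_add_one_of_ne_zero (f := dotProductBilin K K a) fun e => a0 (by
          ext i; simpa using LinearMap.congr_fun e (Pi.single i 1))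
        simpa using this
      · obtain ⟨z, rfl⟩ := he.2 p
        rw [hφ, Projectivization.submodule_mk, Submodule.span_singleton_le_iff_mem, ha]; rfl
  refine ⟨K, inferInstance, Fintype.ofFinite K, φ, A, fun W hW => ?_⟩
  let b := Module.finBasisOfFinrankEq K W hW
  have b0 : ∀ i, (b i).1 ≠ 0 := fun i e => b.ne_zero i (Subtype.ext e)
  obtain ⟨l, l1, l2⟩ := h.exL (φ.symm (Projectivization.mk K _ (b0 0))) (φ.symm (Projectivization.mk K _ (b0 1)))
  obtain ⟨U, u1, u2⟩ := A l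
  rw [u2, φ.apply_symm_apply, Projectivization.submodule_mk, Submodule.span_singleton_le_iff_mem] at l1 l2
  obtain rfl : W = U := Submodule.eq_of_le_of_finrank_eq (fun x hx => by
    have := congrArg Subtype.val (b.sum_repr ⟨x, hx⟩)
    rw [Fin.sum_univ_two] at this
    rw [← show _ = x from this]
    exact U.add_mem (U.smul_mem _ l1) (U.smul_mem _ l2)) (hW.trans u1.symm)
  exact ⟨l, u2⟩

theorem Coord.desarg {K : Type*} [Field K] [Finite K] {pt : K → K → P} {dir : K → P} {Y : P} {w : L}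
    (h : PP I n) (c : Coord I pt dir Y w) : Desarg I := by
  let ι := Shrink.ringEquiv.{0} K
  refine Coord.desarg0 (pt := fun x y => pt (ι x) (ι y)) (dir := fun m => dir (ι m)) h ⟨fun p => ?_, c.Yw,
    fun _ => c.dw _, fun _ _ => c.pw _ _, fun _ => c.dY _, c.dinj.comp ι.injective,
    fun _ _ _ _ e => (c.pinj _ _ _ _ e).imp (ι.injective ·) (ι.injective ·), fun l x y m a b x' y' => ?_,
    fun l x y a b x' y' => (c.lY l _ _ a b _ _).trans ι.injective.eq_iff⟩
  · rcases c.all p with e | ⟨m, e⟩ | ⟨x, y, e⟩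
    exacts [.inl e, .inr (.inl ⟨ι.symm m, by simpa using e⟩), .inr (.inr ⟨ι.symm x, ι.symm y, by simpa using e⟩)]
  · rw [c.ld l _ _ _ a b, ← map_sub, ← map_sub, ← map_mul, ι.injective.eq_iff]

theorem hua_aux {R : Type*} [Ring R] [Nontrivial R] {F F' : AddSubgroup R}
    (h : ∀ x ∈ F, x ≠ 0 → ∃ y ∈ F', x * y = 1 ∧ y * x = 1) (h' : ∀ y ∈ F', y ≠ 0 → ∃ x ∈ F, y * x = 1 ∧ x * y = 1)
    {a b : R} (ha : a ∈ F) (hb : b ∈ F') : a * b * a ∈ F := by
  by_cases a0 : a = 0
  · simp [a0]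
  by_cases b0 : b = 0
  · simp [b0]
  obtain ⟨a', a1, -, a3⟩ := h a ha a0
  obtain ⟨b', b1, b2, b3⟩ := h' b hb b0
  by_cases e : b' - a = 0
  · rw [sub_eq_zero.1 e] at b3; rwa [b3, one_mul]
  obtain ⟨c, c1, -, c3⟩ := h _ (sub_mem b1 ha) e
  have e1 : (a' + c) * (a - a * b * a) = 1 := by
    have : c * (a - a * b * a) = c * (b' - a) * (b * a) + c * (1 - b' * b) * a := by noncomm_ring
    rw [add_mul, this, c3, b3, mul_sub, mul_assoc a, ← mul_assoc a', a3]; noncomm_ring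
  obtain ⟨d, d1, -, d3⟩ := h' _ (add_mem a1 c1) fun e => by simp [e] at e1
  have : d = a - a * b * a := by rw [← mul_one d, ← e1, ← mul_assoc, d3, one_mul]
  simpa [this] using sub_mem ha d1

theorem hua {R : Type*} [Ring R] [Nontrivial R] {F F' : AddSubgroup R} (o : (1 : R) ∈ F) (o' : (1 : R) ∈ F')
    (h : ∀ x ∈ F, x ≠ 0 → ∃ y ∈ F', x * y = 1 ∧ y * x = 1) (h' : ∀ y ∈ F', y ≠ 0 → ∃ x ∈ F, y * x = 1 ∧ x * y = 1) :
    PLocal.Jord F :=
  ⟨o, fun _ hx _ hy => hua_aux h h' hx (by simpa using hua_aux h' h o' hy), fun x hx x0 =>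
    let ⟨y, _, h1, h2⟩ := h x hx x0; ⟨⟨x, y, h1, h2⟩, rfl⟩⟩

end Cfsg.Agent.Plane
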