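import Cfsg.Agent.Plane.Basic

/-! Counting in planes: orbits (`orb`), fixed points versus fixed lines (`PA.fix_card`), involutions
(`PA.inv_off`), the order of elation groups, Burnside consequences of 2-transitivity (`PA.tr2L`, `PA.anti`,
`PA.flag`) and transitivity of elation groups (`PA.stepA`). -/

set_option autoImplicit false

namespace Cfsg.Agent.Plane

open MulAction

section Orb
variable {G X : Type*} [Group G] [MulAction G X]

/-- The orbit of `x` under the subgroup `H`. -/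
def orb (H : Subgroup G) (x : X) : Set X := {y | ∃ g ∈ H, g • x = y}

theorem orb_card (H : Subgroup G) (x : X) :
    (orb H x).ncard * Nat.card (H ⊓ stabilizer G x : Subgroup G) = Nat.card H := by
  have e : orb H x = orbit H x := by
    ext y; exact ⟨fun ⟨g, hg, e⟩ => ⟨⟨g, hg⟩, e⟩, fun ⟨g, e⟩ => ⟨g, g.2, e⟩⟩
  have e2 : Nat.card (H ⊓ stabilizer G x : Subgroup G) = Nat.card (stabilizer H x) := by
    rw [← Subgroup.card_map_of_injective (K := stabilizer H x) H.subtype_injective]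
    congr 2
    ext g
    exact ⟨fun ⟨a, b⟩ => ⟨⟨g, a⟩, b, rfl⟩, by rintro ⟨g, b, rfl⟩; exact ⟨g.2, b⟩⟩
  rw [e, e2, ← index_stabilizer, Subgroup.index_mul_card]

theorem dvd_of_orb [Finite X] (H : Subgroup G) (d : ℕ) : ∀ (k : ℕ) (S : Set X), S.ncard = k →
    (∀ g ∈ H, ∀ x ∈ S, g • x ∈ S) → (∀ x ∈ S, d ∣ (orb H x).ncard) → d ∣ S.ncard := by
  intro k
  induction k using Nat.strong_induction_on with
  | _ k ih =>
    intro S hk h1 h2
    rcases S.eq_empty_or_nonempty with e | ⟨x, hx⟩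
    · simp [e]
    have hs : orb H x ⊆ S := by rintro _ ⟨g, hg, rfl⟩; exact h1 g hg x hx
    have h3 := Set.ncard_diff_add_ncard_of_subset hs
    have h4 : 0 < (orb H x).ncard := (Set.ncard_pos (Set.toFinite _)).2 ⟨x, 1, one_mem _, one_smul _ _⟩
    rw [← h3]
    refine dvd_add (ih _ (by omega) _ rfl (fun g hg y hy => ⟨h1 g hg y hy.1, fun ⟨k, hk, e⟩ => hy.2
      ⟨g⁻¹ * k, mul_mem (inv_mem hg) hk, by rw [mul_smul, e, inv_smul_smul]⟩⟩) fun y hy => h2 y hy.1) (h2 x hx)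

theorem pow_dvd_orb [Finite G] {U K : Subgroup G} (hU : U ≤ K) {p r j : ℕ} (hr : Nat.card K = Nat.card U * r)
    (hp : Nat.Coprime p r) (x : X) (hj : p ^ j ∣ (orb K x).ncard) : p ^ j ∣ (orb U x).ncard := by
  obtain ⟨s, hs⟩ := Subgroup.card_dvd_of_le (inf_le_inf_right (stabilizer G x) hU)
  have h1 := orb_card K x
  rw [hr, ← orb_card U x, hs] at h1
  have h2 : (orb K x).ncard * s = (orb U x).ncard * r :=
    Nat.eq_of_mul_eq_mul_left (Nat.card_pos (α := (U ⊓ stabilizer G x : Subgroup G))) (by linarith)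
  exact (hp.pow_left j).dvd_of_dvd_mul_right (h2 ▸ hj.mul_right s)

theorem exists_syl [Finite G] (K : Subgroup G) {p : ℕ} (hp : p.Prime) :
    ∃ U ≤ K, IsPGroup p U ∧ ∃ r, Nat.card K = Nat.card U * r ∧ Nat.Coprime p r := by
  haveI := Fact.mk hp
  obtain ⟨S⟩ : Nonempty (Sylow p K) := inferInstance
  refine ⟨(S : Subgroup K).map K.subtype, Subgroup.map_subtype_le _, S.isPGroup'.map _, (S : Subgroup K).index, ?_,
    (Nat.Prime.coprime_iff_not_dvd hp).2 S.not_dvd_index⟩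
  rw [Subgroup.card_map_of_injective K.subtype_injective, Subgroup.card_mul_index]

theorem orb_eq [Finite X] {U : Subgroup G} {S : Set X} {x : X} (h1 : ∀ g ∈ U, g • x ∈ S)
    (h2 : S.ncard ∣ (orb U x).ncard) : orb U x = S :=
  Set.eq_of_subset_of_ncard_le (by rintro _ ⟨g, hg, rfl⟩; exact h1 g hg) (Nat.le_of_dvd
    ((Set.ncard_pos (Set.toFinite _)).2 ⟨x, 1, one_mem _, one_smul _ _⟩) h2)

theorem burnside [Fintype G] [Finite X] :
    ∑ g : G, {x : X | g • x = x}.ncard = Nat.card (Quotient (orbitRel G X)) * Nat.card G := by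
  classical
  cases nonempty_fintype X
  have := sum_card_fixedBy_eq_card_orbits_mul_card_group G X
  rw [Nat.card_eq_fintype_card, Nat.card_eq_fintype_card, ← this]
  refine Finset.sum_congr rfl fun g _ => ?_
  rw [← Nat.card_eq_fintype_card]; rfl

theorem two_class [Finite X] (h2 : Nat.card (Quotient (orbitRel G X)) ≤ 2) (S : X → Prop)
    (hS : ∀ (g : G) x, S x → S (g • x)) {x y z : X} (hx : S x) (hy : S y) (hz : ¬ S z) : ∃ g : G, g • x = y := by
  classical
  by_contra hc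
  have ne : ∀ a b : X, (¬ ∃ g : G, g • b = a) → (Quotient.mk (orbitRel G X) a) ≠ Quotient.mk _ b :=
    fun a b h e => h (Quotient.exact e)
  have h3 : ({Quotient.mk (orbitRel G X) z, Quotient.mk _ y, Quotient.mk _ x} : Set _).ncard = 3 :=
    Set.ncard_eq_three.2 ⟨_, _, _, ne _ _ fun ⟨g, e⟩ => hz (e ▸ hS g y hy), ne _ _ fun ⟨g, e⟩ => hz (e ▸ hS g x hx),
      ne _ _ hc, rfl⟩
  have := Set.ncard_le_card ({Quotient.mk (orbitRel G X) z, Quotient.mk _ y, Quotient.mk _ x} : Set _)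
  omega

/-- Double transitivity. -/
def Tr2 (G X : Type*) [Group G] [MulAction G X] : Prop :=
  ∀ p q p' q' : X, p ≠ q → p' ≠ q' → ∃ g : G, g • p = p' ∧ g • q = q'

theorem Tr2.orbs [Finite X] (h : Tr2 G X) {p q : X} (e : p ≠ q) : Nat.card (Quotient (orbitRel G (X × X))) ≤ 2 := by
  have : Function.Surjective fun b : Bool => Quotient.mk (orbitRel G (X × X)) (if b then (p, p) else (p, q)) := by
    rintro ⟨a, b⟩
    by_cases e' : a = b
    · obtain ⟨c, hc⟩ : ∃ c, a ≠ c := by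
        by_cases h1 : a = p
        exacts [⟨q, h1 ▸ e⟩, ⟨p, h1⟩]
      obtain ⟨g, h1, -⟩ := h a c p q hc e
      exact ⟨true, Quotient.sound ⟨g, Prod.ext h1 (e' ▸ h1)⟩⟩
    · obtain ⟨g, h1, h2⟩ := h a b p q e' e
      exact ⟨false, Quotient.sound ⟨g, Prod.ext h1 h2⟩⟩
  simpa using Nat.card_le_card_of_surjective _ this

theorem fix_prod {Y : Type*} [MulAction G Y] (g : G) :
    {x : X × Y | g • x = x}.ncard = {x : X | g • x = x}.ncard * {y : Y | g • y = y}.ncard := by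
  rw [← Set.ncard_prod]; congr 1; ext ⟨x, y⟩; simp [Prod.ext_iff]

theorem Tr2.card_stab [Finite G] [Finite X] (h : Tr2 G X) {p q : X} (e : p ≠ q) :
    (Nat.card X * Nat.card X - Nat.card X) * Nat.card (stabilizer G p ⊓ stabilizer G q : Subgroup G) = Nat.card G := by
  have h1 := orb_card (⊤ : Subgroup G) (p, q)
  have e1 : (⊤ ⊓ stabilizer G (p, q) : Subgroup G) = stabilizer G p ⊓ stabilizer G q := by
    ext g; simp [Prod.ext_iff]
  have e2 : orb (⊤ : Subgroup G) (p, q) = (Set.range fun x : X => (x, x))ᶜ := by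
    ext ⟨a, b⟩
    simp only [Set.mem_compl_iff, Set.mem_range, Prod.ext_iff, not_exists, not_and]
    constructor
    · rintro ⟨g, -, hg⟩ x h1 h2
      rw [Prod.ext_iff] at hg
      exact e (smul_left_cancel g (hg.1.trans ((h1.symm.trans h2).trans hg.2.symm)))
    · intro h1
      obtain ⟨g, h2, h3⟩ := h p q a b e (h1 a rfl)
      exact ⟨g, trivial, Prod.ext h2 h3⟩
  rw [e1, e2, Subgroup.card_top] at h1
  have h2 := Set.ncard_add_ncard_compl (Set.range fun x : X => (x, x))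
  rw [Set.ncard_range_of_injective (fun a b e => (Prod.ext_iff.1 e).1), Nat.card_prod] at h2
  rw [← h1, ← h2]; congr 1; omega

end Orb

variable {P L : Type*} {I : P → L → Prop} {n : ℕ} {G : Type*} [Group G] [MulAction G P] [MulAction G L]

namespace PA
variable (h : PA G I n)
include h

theorem fix_sum (g : G) : {x : P × L | I x.1 x.2 ∧ I x.1 (g • x.2)}.ncard =
    n * {l : L | g • l = l}.ncard + Nat.card L := by
  classical
  have := h.finP
  have := h.finL
  cases nonempty_fintype P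
  cases nonempty_fintype L
  have e : ∀ l : L, (Finset.univ.filter fun x : P × L => (I x.1 x.2 ∧ I x.1 (g • x.2)) ∧ x.2 = l).card =
      n * (if g • l = l then 1 else 0) + 1 := fun l => by
    have e1 : (Finset.univ.filter fun x : P × L => (I x.1 x.2 ∧ I x.1 (g • x.2)) ∧ x.2 = l).card =
        {p | I p l ∧ I p (g • l)}.ncard := by
      rw [← Set.ncard_coe_finset]
      refine (Set.ncard_congr (fun p _ => (p, l)) (fun p hp => by simpa using hp)
        (fun a b _ _ e => (Prod.ext_iff.1 e).1) ?_).symm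
      rintro ⟨p, m⟩ hp
      simp only [Finset.coe_filter, Finset.mem_univ, true_and, Set.mem_setOf_eq] at hp
      obtain ⟨hp, rfl⟩ := hp
      exact ⟨p, hp, rfl⟩
    rw [e1]
    split_ifs with e2
    · simp only [e2, and_self]; rw [h.onL, mul_one]
    · obtain ⟨p, h1, h2⟩ := h.exP l (g • l)
      rw [mul_zero, zero_add, Set.ncard_eq_one]
      exact ⟨p, Set.ext fun q => ⟨fun hq => h.uqP (Ne.symm e2) hq.1 hq.2 h1 h2, by rintro rfl; exact ⟨h1, h2⟩⟩⟩
  have e3 : {x : P × L | I x.1 x.2 ∧ I x.1 (g • x.2)}.ncard =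
      (Finset.univ.filter fun x : P × L => I x.1 x.2 ∧ I x.1 (g • x.2)).card := by
    rw [← Set.ncard_coe_finset]; congr 1; ext; simp
  have e4 : {l : L | g • l = l}.ncard = (Finset.univ.filter fun l : L => g • l = l).card := by
    rw [← Set.ncard_coe_finset]; congr 1; ext; simp
  rw [e3, e4, Finset.card_eq_sum_card_fiberwise (f := Prod.snd) (t := Finset.univ) (fun _ _ => Finset.mem_univ _)]
  simp only [Finset.filter_filter, e, Finset.sum_add_distrib, ← Finset.mul_sum, Finset.sum_boole]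
  simp

theorem fix_card (g : G) : {p : P | g • p = p}.ncard = {l : L | g • l = l}.ncard := by
  have h1 := h.fix_sum g
  have h2 := h.dual.fix_sum g⁻¹
  have e : {x : P × L | I x.1 x.2 ∧ I x.1 (g • x.2)}.ncard = {x : L × P | I x.2 x.1 ∧ I (g⁻¹ • x.2) x.1}.ncard :=
    Set.ncard_congr (fun x _ => x.swap) (fun x hx => ⟨hx.1, (h.inv' g _ _).1 hx.2⟩)
      (fun a b _ _ e => Prod.swap_injective e) fun x hx => ⟨x.swap, ⟨hx.1, (h.inv' g _ _).2 hx.2⟩, rfl⟩
  simp only [inv_smul_eq_iff, eq_comm (b := g • _)] at h2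
  rw [e, h2, h.cardP, h.cardL] at h1
  exact Nat.eq_of_mul_eq_mul_left (by have := h.two_le; omega) (Nat.add_right_cancel h1)

/-- A fixed line of an involution which is not an axis misses exactly `n` fixed points. -/
theorem inv_off {g : G} {l : L} (hg : g * g = 1) (hl : g • l = l) (ha : g ∉ Ax I l) :
    {x | ¬ I x l ∧ g • x = x}.ncard = n := by
  obtain ⟨y, y1, y2⟩ : ∃ y, I y l ∧ g • y ≠ y := by
    by_contra hc; push Not at hc; exact ha hc
  rw [← h.thru_diff y1]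
  refine Set.ncard_congr (fun x _ => (h.exL x y).choose) (fun x hx => ⟨(h.exL x y).choose_spec.2,
    fun e => hx.1 (e ▸ (h.exL x y).choose_spec.1)⟩) (fun a b ha hb e => by_contra fun ne => y2 ?_) fun m hm => ?_
  · have h1 := (h.exL a y).choose_spec
    exact h.fixP (fun e' : (h.exL a y).choose = l => ha.1 (e' ▸ h1.1)) (h.fixL ne ha.2 hb.2 h1.1 (e ▸ (h.exL b y).choose_spec.1)) hl h1.2 y1
  · obtain ⟨x, x1, x2⟩ := h.exP m (g • m)
    have mf : m ≠ g • m := fun e => y2 (h.fixP hm.2 e.symm hl hm.1 y1)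
    have xf : g • x = x := h.uqP mf (by simpa [← mul_smul, hg] using h.sm g x2) (h.sm g x1) x1 x2
    have xy : x ≠ y := fun e => y2 (e ▸ xf)
    exact ⟨x, ⟨fun x3 => xy (h.uqP hm.2 x1 x3 hm.1 y1), xf⟩,
      h.uqL xy (h.exL x y).choose_spec.1 (h.exL x y).choose_spec.2 x1 hm.1⟩

theorem orb_T {a : L} {x : P} (hx : ¬ I x a) : (orb (h.T a) x).ncard = Nat.card (h.T a) := by
  have := orb_card (h.T a) x
  rwa [show h.T a ⊓ stabilizer G x = ⊥ from eq_bot_iff.2 fun g hg => h.T_semi hg.1 hx hg.2, Subgroup.card_bot,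
    mul_one] at this

theorem card_T_dvd (a : L) : Nat.card (h.T a) ∣ n ^ 2 := by
  have := h.finP
  rw [← h.off a]
  exact dvd_of_orb (h.T a) _ _ _ rfl (fun g hg x hx => fun e => hx ((h.invL (h.ax_fix hg.1) x).1 e))
    fun x hx => (h.orb_T hx).symm ▸ dvd_rfl

theorem T_trans {a : L} (hc : n ^ 2 ≤ Nat.card (h.T a)) {x y : P} (hx : ¬ I x a) (hy : ¬ I y a) :
    ∃ g ∈ h.T a, g • x = y := by
  have := h.finP
  have e : orb (h.T a) x = {p | ¬ I p a} := Set.eq_of_subset_of_ncard_le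
    (by rintro _ ⟨g, hg, rfl⟩ e; exact hx ((h.invL (h.ax_fix hg.1) x).1 e)) (by rw [h.off, h.orb_T hx]; exact hc)
  exact (e ▸ hy : y ∈ orb (h.T a) x)

theorem card_T [Fintype P] (a : L) [DecidablePred fun c => I c a] :
    Nat.card (h.T a) + (n + 1) = 1 + ∑ c ∈ Finset.univ.filter (I · a), Nat.card (Ce I c ⊓ Ax I a : Subgroup G) := by
  classical
  have := h.finG
  cases nonempty_fintype G
  have hc : ∀ H : Subgroup G, Nat.card H = (Finset.univ.filter fun g => g ∈ H ∧ g ≠ 1).card + 1 := fun H => by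
    rw [← Finset.card_insert_of_notMem (a := 1) (by simp), Nat.card_eq_fintype_card, Fintype.card_subtype]
    congr 1; ext g; by_cases e : g = 1 <;> simp [e]
  have e0 : (Finset.univ.filter (I · a)).card = n + 1 := by
    rw [← h.onL a, ← Set.ncard_coe_finset]; congr 1; ext; simp
  have e1 : (Finset.univ.filter fun g => g ∈ h.T a ∧ g ≠ 1) = (Finset.univ.filter (I · a)).biUnion
      fun c => Finset.univ.filter fun g => g ∈ (Ce I c ⊓ Ax I a : Subgroup G) ∧ g ≠ 1 := by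
    ext g
    simp only [Finset.mem_filter, Finset.mem_univ, true_and, Finset.mem_biUnion, Subgroup.mem_inf, h.mem_T]
    tauto
  rw [hc, e1, Finset.card_biUnion]
  · simp only [hc, Finset.sum_add_distrib, Finset.sum_const, e0, smul_eq_mul, mul_one]; omega
  · intro c _ d _ e
    refine Finset.disjoint_left.2 fun g h1 h2 => ?_
    simp only [Finset.mem_filter, Finset.mem_univ, true_and, Subgroup.mem_inf] at h1 h2
    exact h1.2 (h.two_ce h1.1.1 h2.1.1 e)

theorem two_pts : ∃ p q : P, p ≠ q := by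
  obtain ⟨l⟩ := h.neL
  obtain ⟨p⟩ := h.neP
  obtain ⟨q, -, h1, -⟩ := h.ex3 l p p
  exact ⟨q, p, h1⟩

theorem orbs_eq (h2 : Tr2 G P) : Nat.card (Quotient (orbitRel G (P × L))) ≤ 2 ∧
    Nat.card (Quotient (orbitRel G (L × L))) ≤ 2 := by
  have := h.finG
  have := h.finP
  have := h.finL
  cases nonempty_fintype G
  obtain ⟨p, q, e⟩ := h.two_pts
  have h0 := h2.orbs e
  have h1 := burnside (G := G) (X := P × P)
  have h3 := burnside (G := G) (X := P × L)
  have h4 := burnside (G := G) (X := L × L)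
  simp only [fix_prod, h.fix_card] at h1 h3 h4
  exact ⟨(Nat.eq_of_mul_eq_mul_right Nat.card_pos (h3.symm.trans h1)).trans_le h0,
    (Nat.eq_of_mul_eq_mul_right Nat.card_pos (h4.symm.trans h1)).trans_le h0⟩

theorem tr2L (h2 : Tr2 G P) : Tr2 G L := fun l m l' m' e e' => by
  have := h.finL
  obtain ⟨g, hg⟩ := two_class (h.orbs_eq h2).2 (fun x => x.1 ≠ x.2)
    (fun g x hx e => hx (smul_left_cancel g e)) (x := (l, m)) (y := (l', m')) (z := (l, l)) e e' (by simp)
  exact ⟨g, Prod.ext_iff.1 hg⟩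

theorem anti (h2 : Tr2 G P) {p q : P} {l m : L} (e : ¬ I p l) (e' : ¬ I q m) : ∃ g : G, g • p = q ∧ g • l = m := by
  have := h.finP
  have := h.finL
  obtain ⟨r, hr, -⟩ := h.exP l l
  obtain ⟨g, hg⟩ := two_class (h.orbs_eq h2).1 (fun x => ¬ I x.1 x.2)
    (fun g x hx e => hx ((h.inv g _ _).1 e)) (x := (p, l)) (y := (q, m)) (z := (r, l)) e e' (by simpa)
  exact ⟨g, Prod.ext_iff.1 hg⟩

theorem flag (h2 : Tr2 G P) {p q : P} {l m : L} (e : I p l) (e' : I q m) : ∃ g : G, g • p = q ∧ g • l = m := by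
  obtain ⟨r, r1, r2, -⟩ := h.ex3 l p p
  obtain ⟨s, s1, s2, -⟩ := h.ex3 m q q
  obtain ⟨g, g1, g2⟩ := h2 r p s q r2 s2
  exact ⟨g, g2, h.uqL s2 (g1 ▸ h.sm g r1) (g2 ▸ h.sm g e) s1 e'⟩

/-- Two involutions with the same axis and distinct centres off the axis multiply to an elation. -/
theorem mul_T {s t : G} {a : L} {c d : P} (s0 : s * s = 1) (t0 : t * t = 1) (s1 : s ≠ 1) (t1 : t ≠ 1)
    (sa : s ∈ Ax I a) (ta : t ∈ Ax I a) (sc : s ∈ Ce I c) (td : t ∈ Ce I d) (e : c ≠ d) : s * t ∈ h.T a := by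
  obtain ⟨f, hf⟩ := h.exists_ce (mul_mem sa ta)
  by_cases fa : I f a
  · exact ⟨mul_mem sa ta, f, fa, hf⟩
  by_cases e1 : s * t = 1
  · rw [e1]; exact one_mem _
  have si : s⁻¹ = s := inv_eq_of_mul_eq_one_right s0
  have ti : t⁻¹ = t := inv_eq_of_mul_eq_one_right t0
  have h1 : s • f = f := h.ce_uq (g := (s * t)⁻¹) (by
    have := h.ce_conj hf s
    rwa [← mul_assoc, s0, one_mul, ← ti, ← mul_inv_rev] at this) (inv_mem hf) (inv_ne_one.2 e1)
  have h2 : t • f = f := by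
    have := h.ce_fix hf
    rwa [mul_smul, ← eq_inv_smul_iff, si, h1] at this
  exact absurd (((h.fix_pt sa sc s1 h1).resolve_right fa).symm.trans ((h.fix_pt ta td t1 h2).resolve_right fa)) e

theorem stepA_el (h2 : Tr2 G P) {g : G} {b : L} (g1 : g ≠ 1) (hg : g ∈ h.T b) (a : L) : n ^ 2 ≤ Nat.card (h.T a) := by
  classical
  have := h.finP
  have := h.finG
  cases nonempty_fintype P
  obtain ⟨ga, c, cb, gc⟩ := hg
  have key : ∀ d, I d a → Nat.card (Ce I d ⊓ Ax I a : Subgroup G) = Nat.card (Ce I c ⊓ Ax I b : Subgroup G) :=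
    fun d hd => by
      obtain ⟨k, rfl, rfl⟩ := h.flag h2 cb hd
      refine Nat.card_congr (Equiv.symm ⟨fun x => ⟨k * x.1 * k⁻¹, h.ce_conj x.2.1 k, h.ax_conj x.2.2 k⟩,
        fun x => ⟨k⁻¹ * x.1 * k⁻¹⁻¹, by simpa using h.ce_conj x.2.1 k⁻¹, by simpa using h.ax_conj x.2.2 k⁻¹⟩,
        fun x => ?_, fun x => ?_⟩) <;> exact Subtype.ext (by simp [mul_assoc])
  have h1 := h.card_T a
  rw [Finset.sum_congr rfl fun d hd => key d (Finset.mem_filter.1 hd).2, Finset.sum_const, smul_eq_mul] at h1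
  have e0 : (Finset.univ.filter (I · a)).card = n + 1 := by
    rw [← h.onL a, ← Set.ncard_coe_finset]; congr 1; ext; simp
  have h3 : 1 < Nat.card (Ce I c ⊓ Ax I b : Subgroup G) :=
    Subgroup.one_lt_card_iff_ne_bot _ |>.2 fun e => g1 (by have : g ∈ Ce I c ⊓ Ax I b := ⟨gc, ga⟩; simpa [e] using this)
  obtain ⟨u, hu⟩ := Nat.exists_eq_add_of_lt h3
  obtain ⟨k, hk⟩ := h.card_T_dvd a
  rw [e0, hu] at h1
  have h4 : Nat.card (h.T a) = 1 + (n + 1) * (u + 1) := by nlinarith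
  rw [h4] at hk ⊢
  have h5 := h.two_le
  rcases Nat.lt_or_ge k (n + 2) with h6 | h6
  · have h7 : (n + 1) ∣ k + n := by
      have : (k + n : ℤ) = (n + 1 : ℕ) * (n - (u + 1) * k) := by
        have : ((n ^ 2 : ℕ) : ℤ) = ((1 + (n + 1) * (u + 1)) * k : ℕ) := by rw [hk]
        push_cast at this ⊢; linarith
      exact Int.natCast_dvd_natCast.1 ⟨_, by exact_mod_cast this⟩
    obtain ⟨v, hv⟩ := h7
    have k0 : k ≠ 0 := by rintro rfl; simp at hk; omega
    have : v = 1 := by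
      rcases v with _ | _ | v
      · omega
      · rfl
      · nlinarith
    subst this
    have : k = 1 := by omega
    subst this; omega
  · nlinarith

theorem stepA_inv (h2 : Tr2 G P) {g : G} {b : L} (g0 : g * g = 1) (g1 : g ≠ 1) (hg : g ∈ Ax I b) (a : L) :
    n ^ 2 ≤ Nat.card (h.T a) := by
  obtain ⟨c, hc⟩ := h.exists_ce hg
  by_cases cb : I c b
  · exact h.stepA_el h2 g1 ⟨hg, c, cb, hc⟩ a
  obtain ⟨d, d1, d2⟩ : ∃ d, ¬ I d b ∧ c ≠ d := by
    obtain ⟨l, l1, l2, -⟩ := h.ex3L c b b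
    obtain ⟨e, e1, e2⟩ := h.exP l b
    obtain ⟨d, d1, d2, d3⟩ := h.ex3 l c e
    exact ⟨d, fun d4 => d3 (h.uqP l2 d1 d4 e1 e2), d2.symm⟩
  obtain ⟨k, rfl, k2⟩ := h.anti h2 cb d1
  have t0 : k * g * k⁻¹ * (k * g * k⁻¹) = 1 := by
    calc _ = k * (g * g) * k⁻¹ := by group
      _ = 1 := by rw [g0]; group
  have t1 : k * g * k⁻¹ ≠ 1 := by simpa using g1
  refine h.stepA_el h2 (fun e => t1 (h.two_ce (h.ce_conj hc k) ?_ d2.symm))
    (h.mul_T g0 t0 g1 t1 hg (k2 ▸ h.ax_conj hg k) hc (h.ce_conj hc k) d2) a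
  rw [eq_inv_of_mul_eq_one_right e]; exact inv_mem hc

end PA

end Cfsg.Agent.Plane
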